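import Cfsg.Agent.S0111
import Cfsg.Agent.Lib.Invol.AbelianCentralizers.Basic
import Cfsg.Agent.Lib.Solv.Nilpotent

/-! A four-group acting on a perfect group with all local involution ranks one. -/

set_option autoImplicit false
set_option linter.style.haveILetI false

namespace Cfsg.Lib.SemisimpleRank

open Subgroup

universe u
variable {P : Type u} [Group P] [Finite P]

theorem two_cases {H : Type u} [Group H] {z w : H} (h : w ∈ zpowers z) (hz : z * z = 1) : w = 1 ∨ w = z := by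
  obtain ⟨k, rfl⟩ := mem_zpowers_iff.1 h
  have hz2 : z ^ (2 : ℤ) = 1 := by rw [zpow_two, hz]
  rcases Int.even_or_odd' k with ⟨j, rfl | rfl⟩
  · left; rw [zpow_mul, hz2, one_zpow]
  · right; rw [zpow_add, zpow_mul, hz2, one_zpow, one_mul, zpow_one]

theorem zpowers_normal_of_central {z : P} (hz : z ∈ center P) : (zpowers z).Normal :=
  ⟨fun n hn g => by
    obtain ⟨k, rfl⟩ := mem_zpowers_iff.1 hn
    rw [mem_center_iff.1 (zpow_mem hz k) g, mul_inv_cancel_right]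
    exact zpow_mem (mem_zpowers z) k⟩

/-- A normal pair: a central involution and a second one moved at most to its translate. -/
theorem four_pair (hP : IsPGroup 2 P) (E : Subgroup P) [E.Normal] (hE : ∀ e ∈ E, e * e = 1)
    {a b : P} (ha : a ∈ E) (hb : b ∈ E) (ha1 : a ≠ 1) (hb1 : b ≠ 1) (hab : a ≠ b) :
    ∃ z w : P, z ∈ E ∧ w ∈ E ∧ z ≠ 1 ∧ w ≠ 1 ∧ w ≠ z ∧ z * w = w * z ∧ z ∈ center P ∧
      ∀ g : P, g * w * g⁻¹ = w ∨ g * w * g⁻¹ = z * w := by
  haveI : Group.IsNilpotent P := hP.isNilpotent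
  have hne : E ≠ ⊥ := fun h => ha1 (by rw [h] at ha; exact Subgroup.mem_bot.1 ha)
  obtain ⟨⟨z, hzE, hzc⟩, hz1'⟩ :=
    Subgroup.ne_bot_iff_exists_ne_one.1 (Cfsg.Lib.Solv.inf_center_ne_bot_of_isNilpotent hne)
  have hz1 : z ≠ 1 := fun h => hz1' (Subtype.ext h)
  haveI := zpowers_normal_of_central hzc
  set f := QuotientGroup.mk' (zpowers z)
  have hs := QuotientGroup.mk'_surjective (zpowers z)
  haveI : (E.map f).Normal := Subgroup.Normal.map inferInstance f hs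
  have hne' : E.map f ≠ ⊥ := by
    intro h
    rw [Subgroup.map_eq_bot_iff, QuotientGroup.ker_mk'] at h
    have := hE z hzE
    rcases two_cases (h ha) this with e | e
    · exact ha1 e
    · rcases two_cases (h hb) this with e' | e'
      · exact hb1 e'
      · exact hab (e.trans e'.symm)
  obtain ⟨⟨y, ⟨w, hw, rfl⟩, hy⟩, hy1⟩ :=
    Subgroup.ne_bot_iff_exists_ne_one.1 (Cfsg.Lib.Solv.inf_center_ne_bot_of_isNilpotent hne')
  have hwz : w ∉ zpowers z := fun h => hy1 (Subtype.ext ((QuotientGroup.eq_one_iff w).2 h))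
  refine ⟨z, w, hzE, hw, hz1, fun h => hwz (h ▸ one_mem _), fun h => hwz (h ▸ mem_zpowers z),
    (mem_center_iff.1 hzc w).symm, hzc, fun g => ?_⟩
  have h1 : g * w * g⁻¹ * w⁻¹ ∈ zpowers z := by
    apply (QuotientGroup.eq_one_iff _).1
    show f (g * w * g⁻¹ * w⁻¹) = 1
    rw [map_mul, map_mul, map_mul, mem_center_iff.1 hy (f g), map_inv, map_inv]
    group
  rcases two_cases h1 (hE z hzE) with e | e
  · left; rwa [mul_inv_eq_one] at e
  · right; rwa [mul_inv_eq_iff_eq_mul] at e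

theorem pow_four_cases {R : Subgroup P} [IsCyclic R] {c x : P} (hc : c ∈ R) (hc4 : orderOf c = 4)
    (hx : x ∈ R) (hx4 : x ^ 4 = 1) : x = 1 ∨ x = c ∨ x = c * c ∨ x = c⁻¹ := by
  classical
  haveI : Fintype R := Fintype.ofFinite _
  have hle : zpowers (⟨c, hc⟩ : R) = zpowers (⟨c, hc⟩ : R) := rfl
  have hcard : (Finset.univ.filter fun y : R => y ^ 4 = 1).card ≤ 4 := IsCyclic.card_pow_eq_one_le (by norm_num)
  have hc' : c ^ 4 = 1 := hc4 ▸ pow_orderOf_eq_one c
  have hinj : ∀ i j : ℕ, i < 4 → j < 4 → c ^ i = c ^ j → i = j := fun i j hi hj h =>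
    pow_injOn_Iio_orderOf (by simpa [hc4] using hi) (by simpa [hc4] using hj) h
  let T : Finset R := (Finset.range 4).image fun i => (⟨c, hc⟩ : R) ^ i
  have hT : T.card = 4 := by
    rw [Finset.card_image_of_injOn fun i hi j hj h => hinj i j (Finset.mem_range.1 hi) (Finset.mem_range.1 hj)
      (congrArg Subtype.val h)]
    simp
  have hsub : T ⊆ Finset.univ.filter fun y : R => y ^ 4 = 1 := by
    intro y hy
    obtain ⟨i, -, rfl⟩ := Finset.mem_image.1 hy
    refine Finset.mem_filter.2 ⟨Finset.mem_univ _, Subtype.ext ?_⟩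
    show (c ^ i) ^ 4 = 1
    rw [← pow_mul, mul_comm, pow_mul, hc', one_pow]
  have heq := Finset.eq_of_subset_of_card_le hsub (hT ▸ hcard)
  have hmem : (⟨x, hx⟩ : R) ∈ T := heq ▸ Finset.mem_filter.2 ⟨Finset.mem_univ _, Subtype.ext hx4⟩
  obtain ⟨i, hi, hxi⟩ := Finset.mem_image.1 hmem
  have hxi' : c ^ i = x := congrArg Subtype.val hxi
  rw [Finset.mem_range] at hi
  interval_cases i
  · left; simpa using hxi'.symm
  · right; left; simpa using hxi'.symm
  · right; right; left; simpa [sq] using hxi'.symm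
  · right; right; right
    rw [← hxi', eq_inv_iff_mul_eq_one, ← pow_succ, hc']

/-- Some power of a two-power order element of order at least four has order four. -/
theorem exists_order_four (hP : IsPGroup 2 P) {y : P} (hy : y * y ≠ 1) :
    ∃ n : ℕ, orderOf (y ^ n) = 4 := by
  obtain ⟨k, hk⟩ := (IsPGroup.iff_orderOf.1 hP) y
  have hk2 : 2 ≤ k := by
    by_contra h
    have hd : orderOf y ∣ 2 := by
      rw [hk]
      rcases (by omega : k = 0 ∨ k = 1) with rfl | rfl <;> norm_num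
    exact hy (by rw [← sq]; exact orderOf_dvd_iff_pow_eq_one.1 hd)
  refine ⟨2 ^ (k - 2), ?_⟩
  have he : orderOf y = 2 ^ (k - 2) * 4 := by
    rw [hk, show (4 : ℕ) = 2 ^ 2 from rfl, ← pow_add, Nat.sub_add_cancel hk2]
  rw [orderOf_pow' y (by positivity), he, Nat.gcd_eq_right (dvd_mul_right _ _),
    Nat.mul_div_cancel_left _ (by positivity)]

theorem sq_one_of_inverted {R : Subgroup P} [IsCyclic R] (hP : IsPGroup 2 P) {c w y : P} (hc : c ∈ R)
    (hc4 : orderOf c = 4) (hwc : w * c * w⁻¹ = c) (hy : y ∈ R) (hwy : w * y * w⁻¹ = y⁻¹) : y * y = 1 := by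
  by_contra h
  obtain ⟨n, hn⟩ := exists_order_four hP h
  have hconj : w * y ^ n * w⁻¹ = (y ^ n)⁻¹ := by
    have := map_pow (MulAut.conj w) y n
    rw [MulAut.conj_apply, MulAut.conj_apply, hwy, inv_pow] at this
    exact this
  have hcc : c⁻¹ ≠ c := by
    intro e
    have : orderOf c ∣ 2 := orderOf_dvd_iff_pow_eq_one.2 (by rw [sq]; nth_rw 1 [← e]; exact inv_mul_cancel c)
    rw [hc4] at this; norm_num at this
  rcases pow_four_cases hc hc4 (pow_mem hy n) (hn ▸ pow_orderOf_eq_one _) with e | e | e | e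
  · rw [e, orderOf_one] at hn; norm_num at hn
  · rw [e, hwc] at hconj; exact hcc hconj.symm
  · rw [e] at hn
    have h2 : orderOf (c ^ 2) = 4 := by rwa [sq]
    rw [orderOf_pow' c (by norm_num), hc4] at h2; norm_num at h2
  · rw [e, inv_inv, show w * c⁻¹ * w⁻¹ = (w * c * w⁻¹)⁻¹ by group, hwc] at hconj; exact hcc hconj

theorem centralizer_le_of_maximal (hP : IsPGroup 2 P) (S R : Subgroup P) [S.Normal] [R.Normal]
    (hR : IsMulCommutative R) (hRS : R ≤ S)
    (hmax : ∀ M : Subgroup P, M.Normal → IsMulCommutative M → M ≤ S → R ≤ M → M = R) :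
    S ⊓ centralizer (R : Set P) ≤ R := by
  by_contra hle
  haveI : Group.IsNilpotent P := hP.isNilpotent
  set f := QuotientGroup.mk' R
  have hs := QuotientGroup.mk'_surjective R
  haveI : ((S ⊓ centralizer (R : Set P)).map f).Normal := Subgroup.Normal.map inferInstance f hs
  have hne : (S ⊓ centralizer (R : Set P)).map f ≠ ⊥ := by
    rwa [Ne, Subgroup.map_eq_bot_iff, QuotientGroup.ker_mk']
  obtain ⟨⟨y, ⟨x, ⟨hxS, hx⟩, rfl⟩, hy⟩, hy1⟩ :=
    Subgroup.ne_bot_iff_exists_ne_one.1 (Cfsg.Lib.Solv.inf_center_ne_bot_of_isNilpotent hne)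
  have hxR : x ∉ R := fun h => hy1 (Subtype.ext ((QuotientGroup.eq_one_iff x).2 h))
  set M := R ⊔ zpowers x with hM
  have hcomm : IsMulCommutative M := by
    rw [← le_centralizer_iff_isMulCommutative, hM]
    refine sup_le ?_ (zpowers_le.2 ?_)
    · rw [le_centralizer_iff]
      exact sup_le (le_centralizer R) (zpowers_le.2 hx)
    · rw [← zpowers_le, le_centralizer_iff]
      refine sup_le ?_ (le_centralizer _)
      rw [le_centralizer_iff]
      exact zpowers_le.2 hx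
  have hMn : M.Normal := ⟨fun m hm g => by
    have hc : f m ∈ center (P ⧸ R) := by
      have : M.map f ≤ center (P ⧸ R) := by
        rw [hM, Subgroup.map_sup, MonoidHom.map_zpowers]
        exact sup_le (by simp [f, QuotientGroup.map_mk'_self]) (zpowers_le.2 hy)
      exact this (mem_map_of_mem f hm)
    have h1 : f (g * m * g⁻¹ * m⁻¹) = 1 := by
      rw [map_mul, map_mul, map_mul, mem_center_iff.1 hc (f g), map_inv, map_inv]
      group
    have h2 : g * m * g⁻¹ * m⁻¹ ∈ M := (le_sup_left : R ≤ M) ((QuotientGroup.eq_one_iff _).1 h1)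
    simpa using mul_mem h2 hm⟩
  exact hxR (hmax M hMn hcomm (sup_le hRS (zpowers_le.2 hxS)) le_sup_left ▸
    le_sup_right (a := R) (mem_zpowers x))

/-- Either an invariant four-group or an invariant cyclic group of order four with one involution
in its centralizer. -/
theorem structure_two (hP : IsPGroup 2 P) (S : Subgroup P) [S.Normal] {a b : P} (ha : a ∈ S) (hb : b ∈ S)
    (ha2 : a * a = 1) (hb2 : b * b = 1) (ha1 : a ≠ 1) (hb1 : b ≠ 1) (hne : a ≠ b) :
    (∃ z w : P, z ∈ S ∧ w ∈ S ∧ z * z = 1 ∧ w * w = 1 ∧ z ≠ 1 ∧ w ≠ 1 ∧ w ≠ z ∧ z * w = w * z ∧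
      z ∈ center P ∧ ∀ g : P, g * w * g⁻¹ = w ∨ g * w * g⁻¹ = z * w) ∨
    (∃ c : P, c ∈ S ∧ orderOf c = 4 ∧ (∀ g : P, g * c * g⁻¹ = c ∨ g * c * g⁻¹ = c⁻¹) ∧
      ∀ w ∈ S, w * w = 1 → w * c = c * w → w = 1 ∨ w = c * c) := by
  classical
  obtain ⟨R, ⟨hRn, hRc, hRS⟩, hmax⟩ :=
    (Set.toFinite {M : Subgroup P | M.Normal ∧ IsMulCommutative M ∧ M ≤ S}).exists_maximal
      ⟨⊥, inferInstance, le_centralizer_iff_isMulCommutative.1 bot_le, bot_le⟩
  haveI := hRn
  haveI := hRc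
  have hself := centralizer_le_of_maximal hP S R hRc hRS
    (fun M h1 h2 h3 h4 => le_antisymm (hmax ⟨h1, h2, h3⟩ h4) h4)
  have comm : ∀ x ∈ R, ∀ y ∈ R, x * y = y * x := fun x hx y hy =>
    congrArg Subtype.val (hRc.is_comm.comm ⟨x, hx⟩ ⟨y, hy⟩)
  let E : Subgroup P :=
    { carrier := {x | x ∈ R ∧ x * x = 1}
      one_mem' := ⟨one_mem _, one_mul 1⟩
      mul_mem' := fun {x y} hx hy => ⟨mul_mem hx.1 hy.1, by
        rw [show x * y * (x * y) = x * (y * x) * y by group, comm y hy.1 x hx.1,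
          show x * (x * y) * y = (x * x) * (y * y) by group, hx.2, hy.2, one_mul]⟩
      inv_mem' := fun {x} hx => ⟨inv_mem hx.1, by rw [← mul_inv_rev, hx.2, inv_one]⟩ }
  haveI hEn : E.Normal := ⟨fun x hx g => ⟨hRn.conj_mem x hx.1 g, by
    rw [show g * x * g⁻¹ * (g * x * g⁻¹) = g * (x * x) * g⁻¹ by group, hx.2, mul_one, mul_inv_cancel]⟩⟩
  by_cases htwo : ∃ x y, x ∈ E ∧ y ∈ E ∧ x ≠ 1 ∧ y ≠ 1 ∧ x ≠ y
  · obtain ⟨x, y, hx, hy, hx1, hy1, hxy⟩ := htwo
    obtain ⟨z, w, hz, hw, h1, h2, h3, h4, h5, h6⟩ :=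
      four_pair hP E (fun e he => he.2) hx hy hx1 hy1 hxy
    exact Or.inl ⟨z, w, hRS hz.1, hRS hw.1, hz.2, hw.2, h1, h2, h3, h4, h5, h6⟩
  push Not at htwo
  haveI : IsCyclic R := by
    letI : CommGroup R := { (inferInstance : Group R) with mul_comm := fun x y => hRc.is_comm.comm x y }
    refine Cfsg.Lib.Invol.AC.isCyclic_of_unique_invol (hP.to_subgroup R) fun x y hx hy => Subtype.ext ?_
    have key : ∀ t : R, orderOf t = 2 → (t : P) ∈ E ∧ (t : P) ≠ 1 := fun t ht =>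
      ⟨⟨t.2, by
        have := congrArg Subtype.val (ht ▸ pow_orderOf_eq_one t : t ^ 2 = 1)
        simpa [sq] using this⟩, fun h => by
        rw [show t = 1 from Subtype.ext h, orderOf_one] at ht
        norm_num at ht⟩
    exact htwo x y (key x hx).1 (key y hy).1 (key x hx).2 (key y hy).2
  have hbig : ∃ x ∈ R, x * x ≠ 1 := by
    by_contra h
    push Not at h
    have hcen : ∀ s : P, s ∈ centralizer (R : Set P) := fun s => mem_centralizer_iff.2 fun r hr => by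
      by_cases hr1 : r = 1
      · simp [hr1]
      have hm : s * r * s⁻¹ ∈ R := hRn.conj_mem r hr s
      have := htwo (s * r * s⁻¹) r ⟨hm, h _ hm⟩ ⟨hr, h _ hr⟩
        (fun e => hr1 (conj_eq_one_iff.1 e)) hr1
      exact (mul_inv_eq_iff_eq_mul.1 this).symm
    exact hne (htwo a b ⟨hself ⟨ha, hcen a⟩, ha2⟩ ⟨hself ⟨hb, hcen b⟩, hb2⟩ ha1 hb1)
  obtain ⟨r0, hr0, hr02⟩ := hbig
  obtain ⟨n, hn⟩ := exists_order_four hP hr02
  set c := r0 ^ n with hcdef
  have hcR : c ∈ R := pow_mem hr0 n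
  have hc4 : c ^ 4 = 1 := hn ▸ pow_orderOf_eq_one c
  have hzz : c * c * (c * c) = 1 := by rw [← hc4]; simp [pow_succ, mul_assoc]
  have hz1 : c * c ≠ 1 := fun h => by
    have : orderOf c ∣ 2 := orderOf_dvd_iff_pow_eq_one.2 (by rw [sq, h])
    rw [hn] at this; norm_num at this
  have huniq : ∀ x ∈ R, x * x = 1 → x = 1 ∨ x = c * c := fun x hx hx2 => by
    by_cases hx1 : x = 1
    · exact Or.inl hx1
    · exact Or.inr (htwo x (c * c) ⟨hx, hx2⟩ ⟨mul_mem hcR hcR, hzz⟩ hx1 hz1)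
  have hconj : ∀ g : P, g * c * g⁻¹ = c ∨ g * c * g⁻¹ = c⁻¹ := fun g => by
    have h4 : (g * c * g⁻¹) ^ 4 = 1 := by rw [conj_pow, hc4, mul_one, mul_inv_cancel]
    rcases pow_four_cases hcR hn (hRn.conj_mem c hcR g) h4 with e | e | e | e
    · exact absurd (conj_eq_one_iff.1 e) (fun h => hz1 (by rw [h, one_mul]))
    · exact Or.inl e
    · exfalso; apply hz1
      have : g * (c * c) * g⁻¹ = 1 := by
        rw [show g * (c * c) * g⁻¹ = (g * c * g⁻¹) * (g * c * g⁻¹) by group, e, hzz]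
      exact conj_eq_one_iff.1 this
    · exact Or.inr e
  by_cases hgood : ∀ w ∈ S, w * w = 1 → w * c = c * w → w = 1 ∨ w = c * c
  · exact Or.inr ⟨c, hRS hcR, hn, hconj, hgood⟩
  left
  push Not at hgood
  obtain ⟨w, hwS, hw2, hwc, hw1, hwz⟩ := hgood
  have hwi : w⁻¹ = w := inv_eq_of_mul_eq_one_left hw2
  have hwR : w ∉ R := fun h => (huniq w h hw2).elim hw1 hwz
  -- each such involution multiplies `R` by the involution of `R` at most
  have act : ∀ v ∈ S, v * v = 1 → v * c = c * v → ∀ r ∈ R,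
      v * r * v⁻¹ = r ∨ v * r * v⁻¹ = c * c * r := by
    intro v _ hv2 hvc r hr
    have hm : v * r * v⁻¹ ∈ R := hRn.conj_mem r hr v
    have hvi : v⁻¹ = v := inv_eq_of_mul_eq_one_left hv2
    have hinv : v * (v * r * v⁻¹ * r⁻¹) * v⁻¹ = (v * r * v⁻¹ * r⁻¹)⁻¹ := by
      rw [show v * (v * r * v⁻¹ * r⁻¹) * v⁻¹ = (v * v) * r * (v⁻¹ * r⁻¹ * v⁻¹) by group, hv2, one_mul, hvi]
      rw [show (v * r * v * r⁻¹)⁻¹ = r * (v⁻¹ * r⁻¹ * v⁻¹) by group, hvi]
    have hvc' : v * c * v⁻¹ = c := by rw [hvc, mul_inv_cancel_right]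
    have := sq_one_of_inverted hP hcR hn hvc' (mul_mem hm (inv_mem hr)) hinv
    rcases huniq _ (mul_mem hm (inv_mem hr)) this with e | e
    · left; rwa [mul_inv_eq_one] at e
    · right; rwa [mul_inv_eq_iff_eq_mul] at e
  have moved : ∀ v ∈ S, v * v = 1 → v * c = c * v → v ∉ R → ∃ r ∈ R, v * r * v⁻¹ = c * c * r := by
    intro v hv hv2 hvc hvR
    by_contra h
    push Not at h
    refine hvR (hself ⟨hv, mem_centralizer_iff.2 fun r hr => ?_⟩)
    have := (act v hv hv2 hvc r hr).resolve_right (h r hr)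
    exact (mul_inv_eq_iff_eq_mul.1 this).symm
  refine ⟨c * c, w, hRS (mul_mem hcR hcR), hwS, hzz, hw2, hz1, hw1, hwz, ?_, ?_, fun g => ?_⟩
  · rw [show w * (c * c) = w * c * c by group, hwc, mul_assoc c w c, hwc, mul_assoc]
  · refine mem_center_iff.2 fun g => mul_inv_eq_iff_eq_mul.1 ?_
    rw [show g * (c * c) * g⁻¹ = g * c * g⁻¹ * (g * c * g⁻¹) by group]
    rcases hconj g with e | e <;> rw [e]
    rw [← mul_inv_rev]
    exact inv_eq_of_mul_eq_one_left hzz
  -- the conjugate of `w`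
  set v := g * w * g⁻¹ with hvdef
  have hvS : v ∈ S := Subgroup.Normal.conj_mem inferInstance w hwS g
  have hv2 : v * v = 1 := by
    rw [hvdef, show g * w * g⁻¹ * (g * w * g⁻¹) = g * (w * w) * g⁻¹ by group, hw2, mul_one, mul_inv_cancel]
  have hvc : v * c = c * v := by
    have hd : w * (g⁻¹ * c * g) = (g⁻¹ * c * g) * w := by
      have := hconj g⁻¹
      rw [inv_inv] at this
      rcases this with e | e <;> rw [e]
      · exact hwc
      · exact (Commute.inv_right hwc).eq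
    calc v * c = g * (w * (g⁻¹ * c * g)) * g⁻¹ := by rw [hvdef]; group
      _ = g * ((g⁻¹ * c * g) * w) * g⁻¹ := by rw [hd]
      _ = c * v := by rw [hvdef]; group
  have hvR : v ∉ R := fun h => hwR (by
    have := hRn.conj_mem v h g⁻¹
    rwa [hvdef, show g⁻¹ * (g * w * g⁻¹) * g⁻¹⁻¹ = w by group] at this)
  have hprod : w * v ∈ R := by
    refine hself ⟨mul_mem hwS hvS, mem_centralizer_iff.2 fun r hr => ?_⟩
    have key : w * v * r * (w * v)⁻¹ = r := by
      obtain ⟨g0, hg0⟩ := IsCyclic.exists_generator (α := R)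
      have gen : ∀ u ∈ S, u * u = 1 → u * c = c * u → u ∉ R → u * (g0 : P) * u⁻¹ = c * c * g0 := by
        intro u hu hu2 huc huR
        obtain ⟨y, hy, hy'⟩ := moved u hu hu2 huc huR
        refine (act u hu hu2 huc g0 g0.2).resolve_left fun hfix => ?_
        obtain ⟨k, hk⟩ := mem_zpowers_iff.1 (hg0 ⟨y, hy⟩)
        have hk' : (g0 : P) ^ k = y := by rw [← Subgroup.coe_zpow, hk]
        rw [← hk', ← conj_zpow, hfix] at hy'
        exact hz1 (by simpa using hy'.symm)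
      obtain ⟨k, hk⟩ := mem_zpowers_iff.1 (hg0 ⟨r, hr⟩)
      have hk' : (g0 : P) ^ k = r := by rw [← Subgroup.coe_zpow, hk]
      rw [← hk', ← conj_zpow]
      congr 1
      have hwz' : w * (c * c) * w⁻¹ = c * c := by
        rw [show w * (c * c) * w⁻¹ = (w * c * w⁻¹) * (w * c * w⁻¹) by group, hwc, mul_inv_cancel_right]
      calc w * v * (g0 : P) * (w * v)⁻¹ = w * (v * g0 * v⁻¹) * w⁻¹ := by group
        _ = w * (c * c) * w⁻¹ * (w * g0 * w⁻¹) := by rw [gen v hvS hv2 hvc hvR]; group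
        _ = c * c * (c * c) * g0 := by rw [hwz', gen w hwS hw2 hwc hwR, ← mul_assoc]
        _ = g0 := by rw [hzz, one_mul]
    exact (mul_inv_eq_iff_eq_mul.1 key).symm
  -- `v = w * ρ`
  set ρ := w * v with hρ
  have hv_eq : v = w * ρ := by rw [hρ, ← mul_assoc, hw2, one_mul]
  have hwρ : w * ρ * w⁻¹ = ρ⁻¹ := by
    rw [hρ, hwi, mul_inv_rev, hwi, inv_eq_of_mul_eq_one_left hv2, ← mul_assoc w w v, hw2, one_mul]
  have hwc' : w * c * w⁻¹ = c := by rw [hwc, mul_inv_cancel_right]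
  rcases huniq ρ hprod (sq_one_of_inverted hP hcR hn hwc' hprod hwρ) with e | e
  · left; rw [hv_eq, e, mul_one]
  · right
    rw [hv_eq, e, show w * (c * c) = w * c * c by group, hwc, mul_assoc c w c, hwc, mul_assoc]

/-- A four-group acting on a perfect normal subgroup in which every nontrivial element centralizes at
most one involution: there is at most one involution in each abelian subgroup. -/
theorem four_action {X : Type u} [Group X] [Finite X] (A U : Subgroup X) [A.Normal]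
    (hperf : A ≤ ⁅A, A⁆) (hU2 : IsPGroup 2 U) {u₁ u₂ : X} (hu₁ : u₁ ∈ U) (hu₂ : u₂ ∈ U)
    (h₁ : u₁ * u₁ = 1) (h₂ : u₂ * u₂ = 1) (h₁1 : u₁ ≠ 1) (h₂1 : u₂ ≠ 1) (h12 : u₁ ≠ u₂)
    (hcomm : u₁ * u₂ = u₂ * u₁)
    (hrank : ∀ u ∈ U, u ≠ 1 → u * u = 1 → ∀ x ∈ A, ∀ y ∈ A, x * x = 1 → y * y = 1 → x ≠ 1 → y ≠ 1 →
      x * y = y * x → u * x = x * u → u * y = y * u → x = y)
    {a b : X} (ha : a ∈ A) (hb : b ∈ A) (ha2 : a * a = 1) (hb2 : b * b = 1) (ha1 : a ≠ 1) (hb1 : b ≠ 1)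
    (hab : a * b = b * a) : a = b := by
  classical
  haveI : Fact (Nat.Prime 2) := ⟨Nat.prime_two⟩
  by_contra hne
  obtain ⟨P, hUP⟩ := hU2.exists_le_sylow
  -- move the two involutions into `P`
  have hQ : IsPGroup 2 ↥(zpowers a ⊔ zpowers b : Subgroup X) := by
    have hle : zpowers b ≤ normalizer (zpowers a : Set X) := by
      refine zpowers_le.2 (centralizer_le_normalizer _ (mem_centralizer_iff.2 fun x hx => ?_))
      obtain ⟨k, rfl⟩ := mem_zpowers_iff.1 hx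
      exact ((show Commute a b from hab).zpow_left k).eq
    have hz : ∀ t : X, t * t = 1 → IsPGroup 2 ↥(zpowers t) := fun t ht => IsPGroup.iff_orderOf.2 fun x => by
      obtain ⟨k, -, hk⟩ := (Nat.dvd_prime_pow Nat.prime_two).1
        (show orderOf x ∣ 2 ^ 1 from orderOf_dvd_of_pow_eq_one (Subtype.ext (by
          obtain ⟨j, hj⟩ := mem_zpowers_iff.1 x.2
          show (x : X) ^ (2 ^ 1) = 1
          rw [pow_one, ← hj, sq, ← (Commute.refl t).mul_zpow, ht, one_zpow])))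
      exact ⟨k, hk⟩
    exact (hz a ha2).to_sup_of_normal_left' (hz b hb2) hle
  obtain ⟨P', hP'⟩ := hQ.exists_le_sylow
  obtain ⟨g, hg⟩ := MulAction.exists_smul_eq X P' P
  have move : ∀ x ∈ zpowers a ⊔ zpowers b, g * x * g⁻¹ ∈ (P : Subgroup X) := fun x hx => by
    rw [← hg]
    exact ⟨x, hP' hx, by simp [MulAut.conj_apply]⟩
  set a' := g * a * g⁻¹ with ha'
  set b' := g * b * g⁻¹ with hb'
  have haP : a' ∈ (P : Subgroup X) := move a (le_sup_left (b := zpowers b) (mem_zpowers a))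
  have hbP : b' ∈ (P : Subgroup X) := move b (le_sup_right (a := zpowers a) (mem_zpowers b))
  have haA : a' ∈ A := Subgroup.Normal.conj_mem inferInstance a ha g
  have hbA : b' ∈ A := Subgroup.Normal.conj_mem inferInstance b hb g
  have hu₁P : u₁ ∈ (P : Subgroup X) := hUP hu₁
  -- a nontrivial element of `U` fixing a two-element orbit
  have fix : ∀ x y : X, (∀ u ∈ U, u * x * u⁻¹ = x ∨ u * x * u⁻¹ = y * x) → y * y = 1 →
      (∀ u ∈ U, u * y * u⁻¹ = y) → ∃ u ∈ U, u ≠ 1 ∧ u * u = 1 ∧ u * x * u⁻¹ = x := by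
    intro x y hxy hy2 hyc
    rcases hxy u₁ hu₁ with e | e
    · exact ⟨u₁, hu₁, h₁1, h₁, e⟩
    rcases hxy u₂ hu₂ with e' | e'
    · exact ⟨u₂, hu₂, h₂1, h₂, e'⟩
    refine ⟨u₁ * u₂, mul_mem hu₁ hu₂, fun h => h12 ?_, ?_, ?_⟩
    · rw [eq_inv_of_mul_eq_one_left h]; exact inv_eq_of_mul_eq_one_left h₂
    · calc u₁ * u₂ * (u₁ * u₂) = u₁ * (u₂ * u₁) * u₂ := by group
        _ = u₁ * u₁ * (u₂ * u₂) := by rw [← hcomm]; group
        _ = 1 := by rw [h₁, h₂, one_mul]
    · calc u₁ * u₂ * x * (u₁ * u₂)⁻¹ = u₁ * (u₂ * x * u₂⁻¹) * u₁⁻¹ := by group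
        _ = u₁ * y * u₁⁻¹ * (u₁ * x * u₁⁻¹) := by rw [e']; group
        _ = y * (y * x) := by rw [e, hyc u₁ hu₁]
        _ = x := by rw [← mul_assoc, hy2, one_mul]
  rcases structure_two P.2 (A.subgroupOf (P : Subgroup X)) (a := ⟨a', haP⟩) (b := ⟨b', hbP⟩) haA hbA
      (Subtype.ext (show a' * a' = 1 by rw [ha', show g * a * g⁻¹ * (g * a * g⁻¹) = g * (a * a) * g⁻¹ by group, ha2]; group))
      (Subtype.ext (show b' * b' = 1 by rw [hb', show g * b * g⁻¹ * (g * b * g⁻¹) = g * (b * b) * g⁻¹ by group, hb2]; group))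
      (fun h => ha1 (conj_eq_one_iff.1 (congrArg Subtype.val h : a' = 1)))
      (fun h => hb1 (conj_eq_one_iff.1 (congrArg Subtype.val h : b' = 1)))
      (fun h => hne ((MulAut.conj g).injective (congrArg Subtype.val h : a' = b'))) with
    ⟨z, w, hzA, hwA, hz2, hw2, hz1, hw1, hwz, hzw, hzc, hconj⟩ | ⟨c, hcA, hc4, hconj, hgood⟩
  · -- an invariant four-group
    have hzu : ∀ u ∈ U, u * (z : X) * u⁻¹ = z := fun u hu => by
      have := congrArg Subtype.val (mem_center_iff.1 hzc ⟨u, hUP hu⟩)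
      simp only [Subgroup.coe_mul] at this
      rw [this, mul_inv_cancel_right]
    obtain ⟨u, hu, hu1, hu2, hux⟩ := fix w z
      (fun u hu => (hconj ⟨u, hUP hu⟩).imp (congrArg Subtype.val) (congrArg Subtype.val))
      (congrArg Subtype.val hz2) hzu
    exact hwz (Subtype.ext (hrank u hu hu1 hu2 w hwA z hzA (congrArg Subtype.val hw2) (congrArg Subtype.val hz2)
      (fun h => hw1 (Subtype.ext h)) (fun h => hz1 (Subtype.ext h)) (congrArg Subtype.val hzw).symm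
      (mul_inv_eq_iff_eq_mul.1 hux) (mul_inv_eq_iff_eq_mul.1 (hzu u hu))))
  -- an invariant cyclic group of order four
  set c₀ : X := (c : X) with hc₀
  have hcP : c₀ ∈ (P : Subgroup X) := c.2
  have hcA' : c₀ ∈ A := hcA
  have hc4' : orderOf c₀ = 4 := by rw [hc₀, Subgroup.orderOf_coe, hc4]
  have cj : ∀ x ∈ (P : Subgroup X), x * c₀ * x⁻¹ = c₀ ∨ x * c₀ * x⁻¹ = c₀⁻¹ := fun x hx =>
    (hconj ⟨x, hx⟩).imp (congrArg Subtype.val) (congrArg Subtype.val)
  have good : ∀ x ∈ A, x ∈ (P : Subgroup X) → x * x = 1 → x * c₀ = c₀ * x → x = 1 ∨ x = c₀ * c₀ :=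
    fun x hxA hxP hx hxc =>
      (hgood ⟨x, hxP⟩ hxA (Subtype.ext hx) (Subtype.ext hxc)).imp (congrArg Subtype.val) (congrArg Subtype.val)
  set z₀ := c₀ * c₀ with hz₀
  have hz2 : z₀ * z₀ = 1 := by
    have : c₀ ^ 4 = 1 := hc4' ▸ pow_orderOf_eq_one c₀
    rw [← this, hz₀]; simp [pow_succ, mul_assoc]
  have hz1 : z₀ ≠ 1 := fun h => by
    have : orderOf c₀ ∣ 2 := orderOf_dvd_iff_pow_eq_one.2 (by rw [sq]; exact h)
    rw [hc4'] at this; norm_num at this
  have hcinv : c₀⁻¹ ≠ c₀ := fun e => hz1 (by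
    rw [hz₀]; nth_rw 1 [← e]; exact inv_mul_cancel c₀)
  have hci : c₀⁻¹ * c₀⁻¹ = z₀ := by rw [← mul_inv_rev]; exact inv_eq_of_mul_eq_one_left hz2
  have hzc : ∀ x ∈ (P : Subgroup X), x * z₀ * x⁻¹ = z₀ := fun x hx => by
    rw [hz₀, show x * (c₀ * c₀) * x⁻¹ = x * c₀ * x⁻¹ * (x * c₀ * x⁻¹) by group]
    rcases cj x hx with e | e <;> rw [e]
    exact hci
  -- an involution other than `z₀`
  obtain ⟨s, hsA, hsP, hs2, hs1, hsz⟩ : ∃ s, s ∈ A ∧ s ∈ (P : Subgroup X) ∧ s * s = 1 ∧ s ≠ 1 ∧ s ≠ z₀ := by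
    have q : ∀ t : X, t * t = 1 → t ≠ 1 → g * t * g⁻¹ * (g * t * g⁻¹) = 1 ∧ g * t * g⁻¹ ≠ 1 := fun t ht ht1 =>
      ⟨by rw [show g * t * g⁻¹ * (g * t * g⁻¹) = g * (t * t) * g⁻¹ by group, ht]; group,
        fun h => ht1 (conj_eq_one_iff.1 h)⟩
    by_cases h : a' = z₀
    · refine ⟨b', hbA, hbP, (q b hb2 hb1).1, (q b hb2 hb1).2, fun h' => hne ?_⟩
      exact (MulAut.conj g).injective (h.trans h'.symm)
    · exact ⟨a', haA, haP, (q a ha2 ha1).1, (q a ha2 ha1).2, h⟩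
  have hsi : s⁻¹ = s := inv_eq_of_mul_eq_one_left hs2
  have hsc : s * c₀ * s⁻¹ = c₀⁻¹ := by
    refine (cj s hsP).resolve_left fun h => ?_
    exact (good s hsA hsP hs2 (mul_inv_eq_iff_eq_mul.1 h)).elim hs1 hsz
  obtain ⟨u, huU, hu1, hu2, huc⟩ := fix c₀ z₀ (fun x hx => (cj x (hUP hx)).imp_right fun e => by
      rw [e, hz₀, eq_comm, eq_inv_iff_mul_eq_one, show c₀ * c₀ * c₀ * c₀ = z₀ * z₀ by rw [hz₀]; group, hz2])
      hz2 (fun x hx => hzc x (hUP hx))
  have huP : u ∈ (P : Subgroup X) := hUP huU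
  have hui : u⁻¹ = u := inv_eq_of_mul_eq_one_left hu2
  set y := u * s * u⁻¹ * s with hy
  have hyA : y ∈ A := mul_mem (Subgroup.Normal.conj_mem inferInstance s hsA u) hsA
  have hyP : y ∈ (P : Subgroup X) := mul_mem (mul_mem (mul_mem huP hsP) (inv_mem huP)) hsP
  have hyc : y * c₀ * y⁻¹ = c₀ := by
    calc y * c₀ * y⁻¹ = u * (s * (u⁻¹ * (s * c₀ * s⁻¹) * u) * s⁻¹) * u⁻¹ := by rw [hy]; group
      _ = c₀ := by
        rw [hsc, hui]
        have e1 : u * c₀⁻¹ * u = c₀⁻¹ := by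
          calc u * c₀⁻¹ * u = u * c₀⁻¹ * u⁻¹ := by rw [hui]
            _ = (u * c₀ * u⁻¹)⁻¹ := by group
            _ = c₀⁻¹ := by rw [huc]
        rw [e1, show s * c₀⁻¹ * s⁻¹ = (s * c₀ * s⁻¹)⁻¹ by group, hsc, inv_inv]
        calc u * c₀ * u = u * c₀ * u⁻¹ := by rw [hui]
          _ = c₀ := huc
  have hinv : u * y * u⁻¹ = y⁻¹ := by
    calc u * y * u⁻¹ = u * u * s * (u⁻¹ * s * u⁻¹) := by rw [hy]; group
      _ = y⁻¹ := by rw [hu2, one_mul, hy, hui, mul_inv_rev, mul_inv_rev, mul_inv_rev, hui, hsi]; group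
  have hy2 : y * y = 1 := by
    by_contra h
    obtain ⟨n, hn⟩ := exists_order_four P.2 (y := (⟨y, hyP⟩ : (P : Subgroup X))) fun e => h (congrArg Subtype.val e)
    rw [← Subgroup.orderOf_coe] at hn
    simp only [SubmonoidClass.coe_pow] at hn
    set d := y ^ n with hd
    have hdA : d ∈ A := pow_mem hyA n
    have hdP : d ∈ (P : Subgroup X) := pow_mem hyP n
    have hdc : Commute d c₀ := Commute.pow_left (show Commute y c₀ from mul_inv_eq_iff_eq_mul.1 hyc) n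
    have hd4 : d ^ 4 = 1 := hn ▸ pow_orderOf_eq_one d
    have hdd : d * d * (d * d) = 1 := by rw [← hd4]; simp [pow_succ, mul_assoc]
    have hdz : d * d = z₀ := (good _ (mul_mem hdA hdA) (mul_mem hdP hdP) hdd (hdc.mul_left hdc).eq).resolve_left
      fun e => by
        have : orderOf d ∣ 2 := orderOf_dvd_iff_pow_eq_one.2 (by rw [sq]; exact e)
        rw [hn] at this; norm_num at this
    have hdi : u * d * u⁻¹ = d⁻¹ := by rw [hd, ← conj_pow, hinv, inv_pow]
    have hprod : d * c₀ * (d * c₀) = 1 := by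
      calc d * c₀ * (d * c₀) = d * (c₀ * d) * c₀ := by group
        _ = d * d * (c₀ * c₀) := by rw [← hdc.eq]; group
        _ = 1 := by rw [hdz, ← hz₀, hz2]
    have hcase : d = c₀⁻¹ ∨ d = c₀ := by
      rcases good _ (mul_mem hdA hcA') (mul_mem hdP hcP) hprod (hdc.mul_left (Commute.refl c₀)).eq with e | e
      · exact Or.inl (eq_inv_of_mul_eq_one_left e)
      · exact Or.inr (mul_right_cancel e)
    rcases hcase with e | e
    · rw [e, inv_inv, show u * c₀⁻¹ * u⁻¹ = (u * c₀ * u⁻¹)⁻¹ by group, huc] at hdi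
      exact hcinv hdi
    · rw [e, huc] at hdi
      exact hcinv hdi.symm
  have hyz : y = z₀ := (good y hyA hyP hy2 (mul_inv_eq_iff_eq_mul.1 hyc)).resolve_left fun h => by
    have hus : u * s * u⁻¹ = s := by
      rw [hy] at h; rw [eq_inv_of_mul_eq_one_left h, hsi]
    exact hsz (hrank u huU hu1 hu2 s hsA z₀ (mul_mem hcA' hcA') hs2 hz2 hs1 hz1
      (mul_inv_eq_iff_eq_mul.1 (hzc s hsP)) (mul_inv_eq_iff_eq_mul.1 hus) (mul_inv_eq_iff_eq_mul.1 (hzc u huP)))
  -- `x = u c` has square `z₀` and centralizes `s`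
  set x := u * c₀ with hx
  have hxP : x ∈ (P : Subgroup X) := mul_mem huP hcP
  have hus : u * s * u⁻¹ = z₀ * s := by
    rw [← hyz, hy, mul_assoc _ s s, hs2, mul_one]
  have hxs : x * s * x⁻¹ = s := by
    calc x * s * x⁻¹ = u * (c₀ * (s * c₀⁻¹ * s⁻¹) * s) * u⁻¹ := by rw [hx]; group
      _ = u * (c₀ * c₀ * s) * u⁻¹ := by
        rw [show s * c₀⁻¹ * s⁻¹ = (s * c₀ * s⁻¹)⁻¹ by group, hsc, inv_inv]
      _ = u * z₀ * u⁻¹ * (u * s * u⁻¹) := by rw [← hz₀]; group
      _ = s := by rw [hzc u huP, hus, ← mul_assoc, hz2, one_mul]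
  have hxx : x * x = z₀ := by
    calc x * x = u * c₀ * u⁻¹ * (u * u) * c₀ := by rw [hx]; group
      _ = z₀ := by rw [huc, hu2, mul_one]
  -- the transfer
  set Q : Subgroup X := (P : Subgroup X) ⊓ centralizer ({c₀} : Set X) with hQdef
  have hQi : Q.relIndex (P : Subgroup X) = 2 := by
    show (Q.subgroupOf (P : Subgroup X)).index = 2
    refine index_eq_two_iff.2 ⟨⟨s, hsP⟩, fun t => ?_⟩
    have hts : ((t : X) * s) * c₀ * ((t : X) * s)⁻¹ = ((t : X) * c₀ * (t : X)⁻¹)⁻¹ := by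
      calc ((t : X) * s) * c₀ * ((t : X) * s)⁻¹ = (t : X) * (s * c₀ * s⁻¹) * (t : X)⁻¹ := by group
        _ = _ := by rw [hsc]; group
    have memQ : ∀ v : X, v ∈ (P : Subgroup X) → (v ∈ Q ↔ v * c₀ * v⁻¹ = c₀) := fun v hv => by
      rw [hQdef, mem_inf, mem_centralizer_singleton_iff]
      exact ⟨fun h => by rw [h.2, mul_inv_cancel_right], fun h => ⟨hv, mul_inv_eq_iff_eq_mul.1 h⟩⟩
    simp only [mem_subgroupOf, Subgroup.coe_mul]
    rw [memQ _ (mul_mem t.2 hsP), memQ _ t.2, hts]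
    rcases cj t t.2 with e | e
    · exact Or.inr ⟨e, fun h => hcinv (by rw [e] at h; exact h)⟩
    · exact Or.inl ⟨by rw [e, inv_inv], fun h => hcinv (by rw [e] at h; exact h)⟩
  have hsQ : s ∉ Q := fun h => by
    rw [hQdef, mem_inf, mem_centralizer_singleton_iff] at h
    exact hcinv (hsc.symm.trans (by rw [h.2, mul_inv_cancel_right]))
  rcases Cfsg.Agent.S0111.result P Q inf_le_left hQi s
      (orderOf_eq_prime (by rw [sq]; exact hs2) hs1) hsP hsQ with ⟨M, hMn, hMi, hsM⟩ | ⟨k, hk⟩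
  · exact hsM ((hperf.trans (commutator_le.2 fun p _ q _ => by
      have hi := fun t => (Subgroup.inv_mem_iff M (x := t))
      rw [commutatorElement_def, mul_mem_iff_of_index_two hMi, mul_mem_iff_of_index_two hMi,
        mul_mem_iff_of_index_two hMi, hi, hi]
      tauto)) hsA)
  set e := k * s * k⁻¹ with he
  have hez : e = z₀ := by
    rw [hQdef, mem_inf, mem_centralizer_singleton_iff] at hk
    refine (good e (Subgroup.Normal.conj_mem inferInstance s hsA k) hk.1 ?_ hk.2).resolve_left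
      fun h => hs1 (conj_eq_one_iff.1 h)
    rw [he, show k * s * k⁻¹ * (k * s * k⁻¹) = k * (s * s) * k⁻¹ by group, hs2]; group
  -- conjugate `k x k⁻¹` into `P` inside the centralizer of `z₀`
  set C := centralizer ({z₀} : Set X) with hC
  have hPC : (P : Subgroup X) ≤ C := fun p hp =>
    mem_centralizer_singleton_iff.2 (mul_inv_eq_iff_eq_mul.1 (hzc p hp))
  have hx'C : k * x * k⁻¹ ∈ C := by
    refine mem_centralizer_singleton_iff.2 (mul_inv_eq_iff_eq_mul.1 ?_)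
    calc k * x * k⁻¹ * z₀ * (k * x * k⁻¹)⁻¹ = k * x * k⁻¹ * e * (k * x * k⁻¹)⁻¹ := by rw [hez]
      _ = k * (x * s * x⁻¹) * k⁻¹ := by rw [he]; group
      _ = z₀ := by rw [hxs, ← he, hez]
  have hz2g : IsPGroup 2 ↥(zpowers (⟨k * x * k⁻¹, hx'C⟩ : C)) := by
    obtain ⟨j, hj⟩ := IsPGroup.iff_orderOf.1 P.2 ⟨x, hxP⟩
    refine IsPGroup.of_card (n := j) ?_
    rw [Nat.card_zpowers, Subgroup.orderOf_mk, ← hj, Subgroup.orderOf_mk]
    exact MulEquiv.orderOf_eq (MulAut.conj k) x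
  obtain ⟨T, hT⟩ := hz2g.exists_le_sylow
  obtain ⟨h, hh⟩ := MulAction.exists_smul_eq C T (P.subtype hPC)
  have hxin : (h : X) * (k * x * k⁻¹) * (h : X)⁻¹ ∈ (P : Subgroup X) := by
    have : h * (⟨k * x * k⁻¹, hx'C⟩ : C) * h⁻¹ ∈ ((P.subtype hPC : Sylow 2 C) : Subgroup C) := by
      rw [← hh]
      exact ⟨_, hT (mem_zpowers _), by simp [MulAut.conj_apply]⟩
    exact this
  set v := (h : X) * k with hv
  have hvs : v * s * v⁻¹ = z₀ := by
    calc v * s * v⁻¹ = (h : X) * e * (h : X)⁻¹ := by rw [hv, he]; group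
      _ = z₀ := by rw [hez, mem_centralizer_singleton_iff.1 h.2, mul_inv_cancel_right]
  set p := v * x * v⁻¹ with hp
  have hpP : p ∈ (P : Subgroup X) := by rw [hp, hv]; convert hxin using 1; group
  have hvz : v * z₀ * v⁻¹ = p * p := by rw [hp, ← hxx]; group
  have hfin : p * p = z₀ := by
    refine (good _ ?_ (mul_mem hpP hpP) ?_ ?_).resolve_left fun h1 => hz1 (conj_eq_one_iff.1 (hvz.trans h1))
    · rw [← hvz]; exact Subgroup.Normal.conj_mem inferInstance _ (mul_mem hcA' hcA') v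
    · rw [← hvz, show v * z₀ * v⁻¹ * (v * z₀ * v⁻¹) = v * (z₀ * z₀) * v⁻¹ by group, hz2]; group
    · apply mul_inv_eq_iff_eq_mul.1
      rw [show p * p * c₀ * (p * p)⁻¹ = p * (p * c₀ * p⁻¹) * p⁻¹ by group]
      rcases cj p hpP with e' | e'
      · rw [e', e']
      · rw [e', show p * c₀⁻¹ * p⁻¹ = (p * c₀ * p⁻¹)⁻¹ by group, e', inv_inv]
  exact hsz ((MulAut.conj v).injective (hvs.trans (hvz.trans hfin).symm))

end Cfsg.Lib.SemisimpleRank
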